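import Mathlib

/-!
Collection in groups of order 320 generated by `a` and an element `u` of order five, and their uniqueness.
-/

set_option autoImplicit false

namespace Cfsg.Agent.Ord320

variable {G : Type*} [Group G]

/-- Powers with exponents modulo two. -/
def pw (x : G) (e : ZMod 2) : G := x ^ e.val

theorem pw_zero (x : G) : pw x 0 = 1 := pow_zero x

theorem pw_one (x : G) : pw x 1 = x := pow_one x

theorem pw_add {x : G} (h : x * x = 1) (e d : ZMod 2) : pw x e * pw x d = pw x (e + d) := by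
  rcases (show ∀ e : ZMod 2, e = 0 ∨ e = 1 by decide) e with rfl | rfl <;>
    rcases (show ∀ e : ZMod 2, e = 0 ∨ e = 1 by decide) d with rfl | rfl <;>
    simp [pw, h, show ((1 : ZMod 2) + 1) = 0 from rfl, show (1 : ZMod 2).val = 1 from rfl]

theorem pw_sq {x z : G} (h : x * x = z) (e : ZMod 2) : pw x e * x = pw x (e + 1) * pw z e := by
  rcases (show ∀ e : ZMod 2, e = 0 ∨ e = 1 by decide) e with rfl | rfl <;>
    simp [pw, h, show ((1 : ZMod 2) + 1) = 0 from rfl, show (1 : ZMod 2).val = 1 from rfl]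

theorem pw_move {x b c : G} (h : x * b = b * x * c) (e : ZMod 2) : pw x e * b = b * pw x e * pw c e := by
  rcases (show ∀ e : ZMod 2, e = 0 ∨ e = 1 by decide) e with rfl | rfl <;>
    simp [pw, h, show (1 : ZMod 2).val = 1 from rfl]

theorem pw_comm {c x : G} (h : c * x = x * c) (e : ZMod 2) : pw c e * x = x * pw c e :=
  (Commute.pow_left (show Commute c x from h) e.val).eq

/-- The relations. -/
structure Rel (a u c1 c2 : G) : Prop where
  hu : u ^ 5 = 1
  z1 : ∀ x, c1 * x = x * c1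
  z2 : ∀ x, c2 * x = x * c2
  s1 : c1 * c1 = 1
  s2 : c2 * c2 = 1
  sq : a * a = c1 * c2
  r1 : (u * a * u⁻¹) * a = a * (u * a * u⁻¹) * c1
  r2 : (u ^ 2 * a * (u ^ 2)⁻¹) * a = a * (u ^ 2 * a * (u ^ 2)⁻¹) * c2
  r3 : (u ^ 3 * a * (u ^ 3)⁻¹) * a = a * (u ^ 3 * a * (u ^ 3)⁻¹) * c2
  r4 : u ^ 4 * a * (u ^ 4)⁻¹ = (u ^ 3 * a * (u ^ 3)⁻¹) * (u ^ 2 * a * (u ^ 2)⁻¹) * (u * a * u⁻¹) * a

/-- The conjugates of `a`. -/
def conjA (a u : G) (i : ℕ) : G := u ^ i * a * (u ^ i)⁻¹

/-- Parameters. -/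
abbrev Pm := (ZMod 2 × ZMod 2 × ZMod 2 × ZMod 2) × (ZMod 2 × ZMod 2) × ZMod 5

/-- The normal form of the 2-part. -/
def nW (a u c1 c2 : G) (e : ZMod 2 × ZMod 2 × ZMod 2 × ZMod 2) (d : ZMod 2 × ZMod 2) : G :=
  pw (conjA a u 0) e.1 * pw (conjA a u 1) e.2.1 * pw (conjA a u 2) e.2.2.1 * pw (conjA a u 3) e.2.2.2 *
    (pw c1 d.1 * pw c2 d.2)

/-- The normal form. -/
def nF (a u c1 c2 : G) (p : Pm) : G := nW a u c1 c2 p.1 p.2.1 * u ^ p.2.2.val

/-- Right multiplication of the 2-part by a conjugate of `a`. -/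
def step (k : Fin 4) (x : (ZMod 2 × ZMod 2 × ZMod 2 × ZMod 2) × (ZMod 2 × ZMod 2)) :
    (ZMod 2 × ZMod 2 × ZMod 2 × ZMod 2) × (ZMod 2 × ZMod 2) :=
  let (e0, e1, e2, e3) := x.1
  let (d1, d2) := x.2
  match k with
  | 0 => ((e0 + 1, e1, e2, e3), (d1 + e0 + e1, d2 + e0 + e2 + e3))
  | 1 => ((e0, e1 + 1, e2, e3), (d1 + e1 + e2, d2 + e1 + e3))
  | 2 => ((e0, e1, e2 + 1, e3), (d1 + e2 + e3, d2 + e2))
  | 3 => ((e0, e1, e2, e3 + 1), (d1 + e3, d2 + e3))

/-- Right multiplication by `a`. -/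
def tA (p : Pm) : Pm :=
  let x := (p.1, p.2.1)
  let y := match p.2.2 with
    | 0 => step 0 x
    | 1 => step 1 x
    | 2 => step 2 x
    | 3 => step 3 x
    | 4 => step 0 (step 1 (step 2 (step 3 x)))
  (y.1, y.2, p.2.2)

/-- Right multiplication by `u`. -/
def tU (p : Pm) : Pm := (p.1, p.2.1, p.2.2 + 1)

variable {a u c1 c2 : G} (h : Rel a u c1 c2)
include h

theorem pw_central {c : G} (hc : c = c1 ∨ c = c2) (e : ZMod 2) (x : G) : pw c e * x = x * pw c e := by
  rcases hc with rfl | rfl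
  · exact pw_comm (h.z1 x) e
  · exact pw_comm (h.z2 x) e

theorem conjA_rel (i : ℕ) {b z : G} (hz : z = c1 ∨ z = c2) (hr : b * a = a * b * z) :
    (u ^ i * b * (u ^ i)⁻¹) * conjA a u i = conjA a u i * (u ^ i * b * (u ^ i)⁻¹) * z := by
  have hz' : ∀ x, z * x = x * z := by rcases hz with rfl | rfl; exacts [h.z1, h.z2]
  calc (u ^ i * b * (u ^ i)⁻¹) * conjA a u i = u ^ i * (b * a) * (u ^ i)⁻¹ := by rw [conjA]; group
    _ = u ^ i * a * b * (z * (u ^ i)⁻¹) := by rw [hr]; group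
    _ = u ^ i * a * b * ((u ^ i)⁻¹ * z) := by rw [hz']
    _ = _ := by rw [conjA]; group

theorem conjA_sq (i : ℕ) : conjA a u i * conjA a u i = c1 * c2 := by
  calc conjA a u i * conjA a u i = u ^ i * (a * a) * (u ^ i)⁻¹ := by rw [conjA]; group
    _ = u ^ i * c1 * (c2 * (u ^ i)⁻¹) := by rw [h.sq]; group
    _ = u ^ i * c1 * ((u ^ i)⁻¹ * c2) := by rw [h.z2]
    _ = u ^ i * (c1 * (u ^ i)⁻¹) * c2 := by group
    _ = u ^ i * ((u ^ i)⁻¹ * c1) * c2 := by rw [h.z1]
    _ = c1 * c2 := by group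

theorem comm_pair {j i : ℕ} (hij : j = i + 1) :
    conjA a u j * conjA a u i = conjA a u i * conjA a u j * c1 := by
  subst hij
  have e : conjA a u (i + 1) = u ^ i * (u * a * u⁻¹) * (u ^ i)⁻¹ := by rw [conjA, pow_succ]; group
  rw [e]
  exact conjA_rel h i (Or.inl rfl) h.r1

theorem comm_pair2 {j i : ℕ} (hij : j = i + 2 ∨ j = i + 3) :
    conjA a u j * conjA a u i = conjA a u i * conjA a u j * c2 := by
  rcases hij with rfl | rfl
  · have e : conjA a u (i + 2) = u ^ i * (u ^ 2 * a * (u ^ 2)⁻¹) * (u ^ i)⁻¹ := by rw [conjA, pow_add]; group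
    rw [e]
    exact conjA_rel h i (Or.inr rfl) h.r2
  · have e : conjA a u (i + 3) = u ^ i * (u ^ 3 * a * (u ^ 3)⁻¹) * (u ^ i)⁻¹ := by rw [conjA, pow_add]; group
    rw [e]
    exact conjA_rel h i (Or.inr rfl) h.r3

theorem pwc_mul (d d' : ZMod 2 × ZMod 2) :
    pw c1 d.1 * pw c2 d.2 * (pw c1 d'.1 * pw c2 d'.2) = pw c1 (d.1 + d'.1) * pw c2 (d.2 + d'.2) := by
  rw [← pw_add h.s1, ← pw_add h.s2, mul_assoc (pw c1 d.1) (pw c2 d.2), ← mul_assoc (pw c2 d.2) (pw c1 d'.1),
    pw_central h (Or.inr rfl) d.2 (pw c1 d'.1)]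
  group

theorem pw_sq' (i : ℕ) (e : ZMod 2) :
    pw (conjA a u i) e * conjA a u i = pw (conjA a u i) (e + 1) * (pw c1 e * pw c2 e) := by
  rw [pw_sq (conjA_sq h i)]
  congr 1
  rcases (show ∀ e : ZMod 2, e = 0 ∨ e = 1 by decide) e with rfl | rfl <;> simp [pw_zero, pw_one]

omit h in
theorem pull {x z y : G} (hz : ∀ g, z * g = g * z) : x * z * y = x * y * z := by
  rw [mul_assoc, hz, ← mul_assoc]

theorem nW_step : ∀ (k : Fin 4) (e : ZMod 2 × ZMod 2 × ZMod 2 × ZMod 2) (d : ZMod 2 × ZMod 2),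
    nW a u c1 c2 e d * conjA a u k.val = nW a u c1 c2 (step k (e, d)).1 (step k (e, d)).2 := by
  rintro k ⟨e0, e1, e2, e3⟩ ⟨d1, d2⟩
  have hd : ∀ (i : ℕ) (X : G), X * (pw c1 d1 * pw c2 d2) * conjA a u i =
      X * conjA a u i * (pw c1 d1 * pw c2 d2) := fun i X => pull fun g => by
    rw [mul_assoc, pw_central h (Or.inr rfl), ← mul_assoc, pw_central h (Or.inl rfl), mul_assoc]
  have c1p : ∀ (e : ZMod 2) (g : G), pw c1 e * g = g * pw c1 e := fun e g => pw_central h (Or.inl rfl) e g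
  have c2p : ∀ (e : ZMod 2) (g : G), pw c2 e * g = g * pw c2 e := fun e g => pw_central h (Or.inr rfl) e g
  have r30 := comm_pair2 h (j := 3) (i := 0) (Or.inr rfl)
  have r20 := comm_pair2 h (j := 2) (i := 0) (Or.inl rfl)
  have r10 := comm_pair h (j := 1) (i := 0) rfl
  have r31 := comm_pair2 h (j := 3) (i := 1) (Or.inl rfl)
  have r21 := comm_pair h (j := 2) (i := 1) rfl
  have r32 := comm_pair h (j := 3) (i := 2) rfl
  have q0 := pw_sq' h 0
  have q1 := pw_sq' h 1
  have q2 := pw_sq' h 2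
  have q3 := pw_sq' h 3
  simp only [nW]
  rw [hd]
  fin_cases k <;> simp only [step] <;>
    generalize conjA a u 0 = A at * <;> generalize conjA a u 1 = B at * <;>
    generalize conjA a u 2 = C at * <;> generalize conjA a u 3 = D at *
  · calc pw A e0 * pw B e1 * pw C e2 * pw D e3 * A * (pw c1 d1 * pw c2 d2)
        = pw A e0 * pw B e1 * pw C e2 * (pw D e3 * A) * (pw c1 d1 * pw c2 d2) := by group
      _ = pw A e0 * pw B e1 * (pw C e2 * A) * pw D e3 * (pw c2 e3 * (pw c1 d1 * pw c2 d2)) := by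
          rw [pw_move r30]; group
      _ = pw A e0 * (pw B e1 * A) * pw C e2 * (pw c2 e2 * pw D e3) * (pw c2 e3 * (pw c1 d1 * pw c2 d2)) := by
          rw [pw_move r20]; group
      _ = (pw A e0 * A) * pw B e1 * (pw c1 e1 * (pw C e2 * (pw c2 e2 * pw D e3))) *
            (pw c2 e3 * (pw c1 d1 * pw c2 d2)) := by
          rw [pw_move r10]; group
      _ = (pw A e0 * A) * pw B e1 * pw C e2 * pw D e3 *
            ((pw c2 e2 * pw c1 e1) * (pw c2 e3 * (pw c1 d1 * pw c2 d2))) := by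
          rw [c1p e1, c2p e2 (pw D e3)]; group
      _ = pw A (e0 + 1) * ((pw c1 e0 * pw c2 e0) * (pw B e1 * pw C e2 * pw D e3)) *
            ((pw c2 e2 * pw c1 e1) * (pw c2 e3 * (pw c1 d1 * pw c2 d2))) := by
          rw [q0]; group
      _ = _ := by
          rw [show (pw c1 e0 * pw c2 e0) * (pw B e1 * pw C e2 * pw D e3) =
              (pw B e1 * pw C e2 * pw D e3) * (pw c1 e0 * pw c2 e0) by
            rw [mul_assoc (pw c1 e0), c2p, ← mul_assoc, c1p, mul_assoc],
            show pw c2 e2 * pw c1 e1 = pw c1 e1 * pw c2 e2 from c2p _ _,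
            show pw c2 e3 * (pw c1 d1 * pw c2 d2) = pw c1 d1 * pw c2 (d2 + e3) by
              rw [← mul_assoc, c2p, mul_assoc, pw_add h.s2, add_comm e3],
            pwc_mul h (e1, e2) (d1, d2 + e3)]
          have e4 := pwc_mul h (e0, e0) (e1 + d1, e2 + (d2 + e3))
          simp only at e4 ⊢
          rw [show d1 + e0 + e1 = e0 + (e1 + d1) by ring, show d2 + e0 + e2 + e3 = e0 + (e2 + (d2 + e3)) by ring, ← e4]
          group
  · calc pw A e0 * pw B e1 * pw C e2 * pw D e3 * B * (pw c1 d1 * pw c2 d2)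
        = pw A e0 * pw B e1 * pw C e2 * (pw D e3 * B) * (pw c1 d1 * pw c2 d2) := by group
      _ = pw A e0 * pw B e1 * (pw C e2 * B) * pw D e3 * (pw c2 e3 * (pw c1 d1 * pw c2 d2)) := by
          rw [pw_move r31]; group
      _ = pw A e0 * (pw B e1 * B) * pw C e2 * (pw c1 e2 * pw D e3) * (pw c2 e3 * (pw c1 d1 * pw c2 d2)) := by
          rw [pw_move r21]; group
      _ = pw A e0 * pw B (e1 + 1) * ((pw c1 e1 * pw c2 e1) * (pw C e2 * pw D e3)) *
            (pw c1 e2 * (pw c2 e3 * (pw c1 d1 * pw c2 d2))) := by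
          rw [c1p e2 (pw D e3), q1]; group
      _ = _ := by
          rw [show (pw c1 e1 * pw c2 e1) * (pw C e2 * pw D e3) = (pw C e2 * pw D e3) * (pw c1 e1 * pw c2 e1) by
            rw [mul_assoc (pw c1 e1), c2p, ← mul_assoc, c1p, mul_assoc],
            show pw c2 e3 * (pw c1 d1 * pw c2 d2) = pw c1 d1 * pw c2 (d2 + e3) by
              rw [← mul_assoc, c2p, mul_assoc, pw_add h.s2, add_comm e3],
            show pw c1 e2 * (pw c1 d1 * pw c2 (d2 + e3)) = pw c1 (e2 + d1) * pw c2 (d2 + e3) by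
              rw [← mul_assoc, pw_add h.s1]]
          have e4 := pwc_mul h (e1, e1) (e2 + d1, d2 + e3)
          simp only at e4 ⊢
          rw [show d1 + e1 + e2 = e1 + (e2 + d1) by ring, show d2 + e1 + e3 = e1 + (d2 + e3) by ring, ← e4]
          group
  · calc pw A e0 * pw B e1 * pw C e2 * pw D e3 * C * (pw c1 d1 * pw c2 d2)
        = pw A e0 * pw B e1 * pw C e2 * (pw D e3 * C) * (pw c1 d1 * pw c2 d2) := by group
      _ = pw A e0 * pw B e1 * (pw C e2 * C) * pw D e3 * (pw c1 e3 * (pw c1 d1 * pw c2 d2)) := by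
          rw [pw_move r32]; group
      _ = pw A e0 * pw B e1 * pw C (e2 + 1) * ((pw c1 e2 * pw c2 e2) * pw D e3) *
            (pw c1 e3 * (pw c1 d1 * pw c2 d2)) := by
          rw [q2]; group
      _ = _ := by
          rw [show (pw c1 e2 * pw c2 e2) * pw D e3 = pw D e3 * (pw c1 e2 * pw c2 e2) by
            rw [mul_assoc (pw c1 e2), c2p, ← mul_assoc, c1p, mul_assoc],
            show pw c1 e3 * (pw c1 d1 * pw c2 d2) = pw c1 (e3 + d1) * pw c2 d2 by
              rw [← mul_assoc, pw_add h.s1]]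
          have e4 := pwc_mul h (e2, e2) (e3 + d1, d2)
          simp only at e4 ⊢
          rw [show d1 + e2 + e3 = e2 + (e3 + d1) by ring, show d2 + e2 = e2 + d2 by ring, ← e4]
          group
  · calc pw A e0 * pw B e1 * pw C e2 * pw D e3 * D * (pw c1 d1 * pw c2 d2)
        = pw A e0 * pw B e1 * pw C e2 * (pw D e3 * D) * (pw c1 d1 * pw c2 d2) := by group
      _ = pw A e0 * pw B e1 * pw C e2 * pw D (e3 + 1) * ((pw c1 e3 * pw c2 e3) * (pw c1 d1 * pw c2 d2)) := by
          rw [q3]; group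
      _ = _ := by
          have e4 := pwc_mul h (e3, e3) (d1, d2)
          simp only at e4 ⊢
          rw [e4, add_comm d1, add_comm d2]

theorem nF_tU (p : Pm) : nF a u c1 c2 p * u = nF a u c1 c2 (tU p) := by
  simp only [nF, tU, mul_assoc]
  congr 1
  rw [← pow_succ, ← pow_mod_orderOf]
  conv_rhs => rw [← pow_mod_orderOf]
  congr 1
  have h5 : orderOf u ∣ 5 := orderOf_dvd_of_pow_eq_one h.hu
  refine Nat.ModEq.of_dvd h5 ?_
  have key : ∀ k : ZMod 5, (k.val + 1) % 5 = (k + 1).val % 5 := by decide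
  exact key p.2.2

theorem u_pow_a (k : ℕ) : u ^ k * a = conjA a u k * u ^ k := by rw [conjA, inv_mul_cancel_right]

theorem nF_tA (p : Pm) : nF a u c1 c2 p * a = nF a u c1 c2 (tA p) := by
  obtain ⟨e, d, k⟩ := p
  rw [nF, mul_assoc, u_pow_a h, ← mul_assoc]
  have key : nW a u c1 c2 e d * conjA a u k.val = nW a u c1 c2 (tA (e, d, k)).1 (tA (e, d, k)).2.1 := by
    rcases (show ∀ k : ZMod 5, k = 0 ∨ k = 1 ∨ k = 2 ∨ k = 3 ∨ k = 4 by decide) k with
      rfl | rfl | rfl | rfl | rfl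
    · exact nW_step h 0 e d
    · exact nW_step h 1 e d
    · exact nW_step h 2 e d
    · exact nW_step h 3 e d
    · have e4 : conjA a u 4 = conjA a u 3 * conjA a u 2 * conjA a u 1 * conjA a u 0 := by
        simp only [conjA, pow_zero, pow_one, one_mul, inv_one, mul_one]
        exact h.r4
      show nW a u c1 c2 e d * conjA a u 4 = _
      rw [e4, ← mul_assoc, ← mul_assoc, ← mul_assoc]
      rw [show nW a u c1 c2 e d * conjA a u 3 = _ from nW_step h 3 e d,
        show nW a u c1 c2 _ _ * conjA a u 2 = _ from nW_step h 2 _ _,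
        show nW a u c1 c2 _ _ * conjA a u 1 = _ from nW_step h 1 _ _,
        show nW a u c1 c2 _ _ * conjA a u 0 = _ from nW_step h 0 _ _]
      rfl
  rw [key]
  rfl

theorem nF_zero : nF a u c1 c2 ((0, 0, 0, 0), (0, 0), 0) = 1 := by
  simp [nF, nW, pw_zero]

theorem mem_range_nF [Finite G] (htop : Subgroup.closure {a, u} = ⊤) (x : G) : x ∈ Set.range (nF a u c1 c2) := by
  have hx : x ∈ Submonoid.closure ({a, u} : Set G) := by
    have e := Subgroup.closure_toSubmonoid_of_finite (s := ({a, u} : Set G))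
    have : x ∈ (Subgroup.closure ({a, u} : Set G)).toSubmonoid := by rw [htop]; trivial
    rwa [e] at this
  induction hx using Submonoid.closure_induction_right with
  | one => exact ⟨_, nF_zero h⟩
  | mul_right y hy g hg ih =>
    obtain ⟨p, rfl⟩ := ih
    rcases hg with rfl | rfl
    · exact ⟨_, (nF_tA h p).symm⟩
    · exact ⟨_, (nF_tU h p).symm⟩

omit h in
theorem card_pm : Nat.card Pm = 320 := by
  simp [Nat.card_eq_fintype_card]

/-- Two groups of order 320 with such generators are isomorphic. -/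
theorem nonempty_equiv {K : Type*} [Group K] [Finite G] [Finite K] {a' u' d1 d2 : K} (h' : Rel a' u' d1 d2)
    (hG : Nat.card G = 320) (hK : Nat.card K = 320) (ht : Subgroup.closure {a, u} = ⊤)
    (ht' : Subgroup.closure {a', u'} = ⊤) : Nonempty (G ≃* K) := by
  have hs : Function.Surjective (nF a u c1 c2) := fun x => mem_range_nF h ht x
  have hs' : Function.Surjective (nF a' u' d1 d2) := fun x => mem_range_nF h' ht' x
  have hb := (Nat.bijective_iff_surjective_and_card _).2 ⟨hs, card_pm.trans hG.symm⟩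
  have hb' := (Nat.bijective_iff_surjective_and_card _).2 ⟨hs', card_pm.trans hK.symm⟩
  let φ : G ≃ K := (Equiv.ofBijective _ hb).symm.trans (Equiv.ofBijective _ hb')
  have hφ : ∀ p, φ (nF a u c1 c2 p) = nF a' u' d1 d2 p := fun p => by
    show nF a' u' d1 d2 ((Equiv.ofBijective _ hb).symm (nF a u c1 c2 p)) = _
    rw [Equiv.ofBijective_symm_apply_apply]
  have h1 : φ 1 = 1 := by rw [← nF_zero h, hφ, nF_zero h']
  have ga : ∀ x, φ (x * a) = φ x * a' := fun x => by
    obtain ⟨p, rfl⟩ := hs x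
    rw [nF_tA h, hφ, hφ, nF_tA h']
  have gu : ∀ x, φ (x * u) = φ x * u' := fun x => by
    obtain ⟨p, rfl⟩ := hs x
    rw [nF_tU h, hφ, hφ, nF_tU h']
  have hmul : ∀ y x, φ (x * y) = φ x * φ y := by
    intro y
    have hy : y ∈ Submonoid.closure ({a, u} : Set G) := by
      have e := Subgroup.closure_toSubmonoid_of_finite (s := ({a, u} : Set G))
      have : y ∈ (Subgroup.closure ({a, u} : Set G)).toSubmonoid := by rw [ht]; trivial
      rwa [e] at this
    induction hy using Submonoid.closure_induction_right with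
    | one => intro x; rw [mul_one, h1, mul_one]
    | mul_right y hy g hg ih =>
      intro x
      rcases hg with rfl | rfl
      · rw [← mul_assoc, ga, ih, ga, mul_assoc]
      · rw [← mul_assoc, gu, ih, gu, mul_assoc]
  exact ⟨{ φ with map_mul' := fun x y => hmul y x }⟩

end Cfsg.Agent.Ord320
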