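import Cfsg.Agent.Ord320.Collect

/-!
Generators with the standard relations in a group of order 320 with derived subgroup of order 64.
-/

set_option autoImplicit false

namespace Cfsg.Agent.Ord320

open scoped commutatorElement

variable {G : Type*} [Group G]

theorem fix_mod_five [Finite G] (S : Subgroup G) (u : G) (hu : u ^ 5 = 1) (hS : ∀ x ∈ S, u * x * u⁻¹ ∈ S) :
    Nat.card S % 5 = Nat.card {x : S // u * (x : G) * u⁻¹ = x} % 5 := by
  classical
  have := Fintype.ofFinite G
  have inj : Function.Injective fun x : S => (⟨u * x * u⁻¹, hS x x.2⟩ : S) := by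
    intro x y e
    have := congrArg Subtype.val e
    simp only [mul_left_inj, mul_right_inj] at this
    exact Subtype.ext this
  let σ : Equiv.Perm S := Equiv.ofBijective _ (Finite.injective_iff_bijective.mp inj)
  have hσ : ∀ (n : ℕ) (x : S), ((σ ^ n) x : G) = u ^ n * x * (u ^ n)⁻¹ := by
    intro n
    induction n with
    | zero => simp
    | succ n ih =>
      intro x
      rw [pow_succ', Equiv.Perm.mul_apply]
      show u * ((σ ^ n) x : G) * u⁻¹ = _
      rw [ih, pow_succ' u]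
      group
  have h5 : σ ^ 5 ^ 1 = 1 := by
    ext x
    rw [pow_one, hσ, hu]
    simp
  have : Fact (Nat.Prime 5) := ⟨by norm_num⟩
  have key := Equiv.Perm.card_compl_support_modEq h5
  have e : σ.supportᶜ.card = Nat.card {x : S // u * (x : G) * u⁻¹ = x} := by
    rw [Nat.card_eq_fintype_card, Fintype.card_subtype]
    congr 1
    ext x
    simp only [Finset.mem_compl, Equiv.Perm.mem_support, not_not, Finset.mem_filter, Finset.mem_univ, true_and]
    exact Subtype.ext_iff
  rw [Nat.card_eq_fintype_card (α := S), ← e]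
  exact key.symm

theorem dvd16 {k : ℕ} (h : k ∣ 16) (h5 : k % 5 = 1) : k = 1 ∨ k = 16 := by
  have hk : k ≤ 16 := Nat.le_of_dvd (by norm_num) h
  interval_cases k <;> simp_all

theorem exists_rel [Finite G] (hG : Nat.card G = 320) (hD : Nat.card (commutator G) = 64)
    (hZ : IsKleinFour (Subgroup.center (commutator G))) :
    ∃ a u c1 c2 : G, Rel a u c1 c2 ∧ Subgroup.closure {a, u} = ⊤ := by
  classical
  set P := commutator G with hPdef
  have hPn : P.Normal := by rw [hPdef]; infer_instance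
  let Z := (Subgroup.center P).map P.subtype
  have hZP : Z ≤ P := Subgroup.map_subtype_le _
  have hZc : Nat.card Z = 4 :=
    (Nat.card_congr ((Subgroup.center P).equivMapOfInjective _ P.subtype_injective).toEquiv).symm.trans
      hZ.card_four
  have hZsq : ∀ z ∈ Z, z * z = 1 := by
    rintro z ⟨w, hw, rfl⟩
    have := IsKleinFour.mul_self (G := Subgroup.center P) ⟨w, hw⟩
    exact congrArg (fun t : Subgroup.center P => ((t : P) : G)) this
  have : Fact (Nat.Prime 5) := ⟨by norm_num⟩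
  obtain ⟨u, hu⟩ := exists_prime_orderOf_dvd_card' (G := G) 5 (by rw [hG]; norm_num)
  have hu5 : u ^ 5 = 1 := by rw [← hu]; exact pow_orderOf_eq_one u
  have hne5 : ∀ (S : Subgroup G), u ∈ S → 5 ∣ Nat.card S := fun S hS => by
    rw [← hu, ← Subgroup.orderOf_mk u hS]
    exact orderOf_dvd_natCard _
  have hgen : ∀ S : Subgroup G, P ≤ S → u ∈ S → S = ⊤ := by
    intro S hPS hS
    apply Subgroup.eq_top_of_card_eq
    have h1 : 64 ∣ Nat.card S := hD ▸ Subgroup.card_dvd_of_le hPS
    have h2 := hne5 S hS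
    have h3 : Nat.card S ∣ 320 := hG ▸ Subgroup.card_subgroup_dvd_card S
    rw [hG]
    exact Nat.dvd_antisymm h3 (Nat.Coprime.mul_dvd_of_dvd_of_dvd (show Nat.Coprime 64 5 by norm_num) h1 h2)
  have hPz : ∀ z ∈ Z, ∀ g ∈ P, z * g = g * z := by
    rintro z ⟨w, hw, rfl⟩ g hg
    exact congrArg Subtype.val (Subgroup.mem_center_iff.mp hw ⟨g, hg⟩).symm
  have huZ : ∀ z ∈ Z, u * z * u⁻¹ ∈ Z := by
    intro z hz
    obtain ⟨w, hw, rfl⟩ := hz
    refine ⟨⟨u * w * u⁻¹, hPn.conj_mem _ w.2 u⟩, Subgroup.mem_center_iff.mpr fun g => ?_, rfl⟩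
    apply Subtype.ext
    show (g : G) * (u * w * u⁻¹) = u * w * u⁻¹ * g
    have h := hPz w ⟨w, hw, rfl⟩ (u⁻¹ * g * u) (by simpa using hPn.conj_mem _ g.2 u⁻¹)
    calc (g : G) * (u * w * u⁻¹) = u * ((u⁻¹ * g * u) * w) * u⁻¹ := by group
      _ = u * (w * (u⁻¹ * g * u)) * u⁻¹ := by rw [h]
      _ = _ := by group
  have hZu : ∀ z ∈ Z, u * z = z * u := by
    have h := fix_mod_five Z u hu5 huZ
    have hle : Nat.card {x : Z // u * (x : G) * u⁻¹ = x} ≤ Nat.card Z := Finite.card_subtype_le _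
    have he : Nat.card {x : Z // u * (x : G) * u⁻¹ = x} = Nat.card Z := by
      rw [hZc] at h hle ⊢; omega
    intro z hz
    by_contra hne
    have := Finite.card_subtype_lt (p := fun x : Z => u * (x : G) * u⁻¹ = x) (x := ⟨z, hz⟩)
      (fun e => hne (mul_inv_eq_iff_eq_mul.mp e))
    omega
  have hZcen : ∀ z ∈ Z, ∀ x, z * x = x * z := by
    intro z hz x
    have : Subgroup.centralizer {z} = ⊤ := hgen _
      (fun g hg => Subgroup.mem_centralizer_singleton_iff.mpr (hPz z hz g hg).symm)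
      (Subgroup.mem_centralizer_singleton_iff.mpr (hZu z hz))
    exact (Subgroup.mem_centralizer_singleton_iff.mp (by rw [this]; trivial : x ∈ Subgroup.centralizer {z})).symm
  have hZn : Z.Normal := ⟨fun z hz g => by rw [← hZcen z hz g, mul_inv_cancel_right]; exact hz⟩
  let π := QuotientGroup.mk' Z
  have πeq : ∀ x y : G, π x = π y ↔ ∃ z ∈ Z, x * z = y := fun x y => QuotientGroup.mk'_eq_mk' Z
  have π1 : ∀ x : G, π x = 1 ↔ x ∈ Z := fun x => QuotientGroup.eq_one_iff x
  let Pb := P.map π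
  have hPb : Nat.card Pb = 16 := by
    have h := (π.comp P.subtype).ker.card_eq_card_quotient_mul_card_subgroup
    rw [Nat.card_congr (QuotientGroup.quotientKerEquivRange _).toEquiv, MonoidHom.range_comp,
      Subgroup.range_subtype, hD] at h
    have hk : Nat.card (π.comp P.subtype).ker = 4 := by
      rw [← MonoidHom.comap_ker, QuotientGroup.ker_mk']
      exact (Nat.card_congr (Subgroup.subgroupOfEquivOfLe hZP).toEquiv).trans hZc
    rw [hk] at h
    show Nat.card (P.map π) = 16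
    omega
  set ub := π u with hub
  have hub5 : ub ^ 5 = 1 := by rw [hub, ← map_pow, hu5, map_one]
  have hPbn : Pb.Normal := hPn.map π (QuotientGroup.mk'_surjective Z)
  have fpf : ∀ x ∈ Pb, ub * x * ub⁻¹ = x → x = 1 := by
    have h := fix_mod_five Pb ub hub5 (fun x hx => hPbn.conj_mem x hx ub)
    let C := Pb ⊓ Subgroup.centralizer {ub}
    have hC : Nat.card {x : Pb // ub * (x : G ⧸ Z) * ub⁻¹ = x} = Nat.card C :=
      Nat.card_congr
        { toFun := fun x => ⟨x.1.1, x.1.2, Subgroup.mem_centralizer_singleton_iff.mpr (mul_inv_eq_iff_eq_mul.mp x.2).symm⟩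
          invFun := fun x => ⟨⟨x.1, x.2.1⟩, mul_inv_eq_iff_eq_mul.mpr (Subgroup.mem_centralizer_singleton_iff.mp x.2.2).symm⟩
          left_inv := fun x => rfl
          right_inv := fun x => rfl }
    rw [hC, hPb] at h
    have hdvd : Nat.card C ∣ 16 := hPb ▸ Subgroup.card_dvd_of_le (inf_le_left (a := Pb))
    rcases dvd16 hdvd (by omega) with h1 | h16
    · intro x hx e
      have : x ∈ C := ⟨hx, Subgroup.mem_centralizer_singleton_iff.mpr (mul_inv_eq_iff_eq_mul.mp e).symm⟩
      rw [Subgroup.eq_bot_of_card_eq C h1] at this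
      simpa using this
    · exfalso
      have hCP : C = Pb := Subgroup.eq_of_le_of_card_ge inf_le_left (by rw [h16, hPb])
      have hcomm : ∀ g ∈ P, u * g = g * u := by
        intro g hg
        have : π g ∈ C := by rw [hCP]; exact Subgroup.mem_map_of_mem π hg
        have e : π (g * u) = π (u * g) := by
          rw [map_mul, map_mul]; exact Subgroup.mem_centralizer_singleton_iff.mp this.2
        obtain ⟨z, hz, ez⟩ := (πeq _ _).1 e
        have e1 : u * g * u⁻¹ = g * z := by rw [← ez, mul_assoc g u, ← hZcen z hz u]; group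
        have e2 : ∀ n : ℕ, u ^ n * g * (u ^ n)⁻¹ = g * z ^ n := by
          intro n
          induction n with
          | zero => simp
          | succ n ih =>
            calc u ^ (n + 1) * g * (u ^ (n + 1))⁻¹ = u * (u ^ n * g * (u ^ n)⁻¹) * u⁻¹ := by
                  rw [pow_succ' u]; group
              _ = (u * g * u⁻¹) * (u * z ^ n * u⁻¹) := by rw [ih]; group
              _ = g * z * z ^ n := by
                  rw [e1, ← hZcen (z ^ n) (pow_mem hz n) u, mul_inv_cancel_right]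
              _ = _ := by rw [pow_succ']; group
        have e3 := e2 5
        have : z ^ 5 = z := by rw [pow_succ, show (4 : ℕ) = 2 + 2 from rfl, pow_add, pow_two, hZsq z hz]; simp
        rw [hu5, this] at e3
        simp at e3
        rw [e3, mul_one] at ez
        exact ez.symm
      have hdec : ∀ x : G, ∃ g ∈ P, ∃ k : ℕ, x = g * u ^ k := by
        intro x
        have hsup : P ⊔ Subgroup.zpowers u = ⊤ := hgen _ le_sup_left (SetLike.le_def.mp le_sup_right (Subgroup.mem_zpowers u))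
        have hx : x ∈ P ⊔ Subgroup.zpowers u := by rw [hsup]; trivial
        obtain ⟨g, hg, w, hw, rfl⟩ := Subgroup.mem_sup_of_normal_left.mp hx
        obtain ⟨k, hk⟩ := (isOfFinOrder_of_finite u).mem_powers_iff_mem_zpowers.mpr hw
        exact ⟨g, hg, k, by rw [← hk]⟩
      have hle : P ≤ ⁅P, P⁆ := by
        conv_lhs => rw [hPdef, commutator_def]
        rw [Subgroup.commutator_le]
        intro x _ y _
        obtain ⟨g, hg, k, rfl⟩ := hdec x
        obtain ⟨g', hg', l, rfl⟩ := hdec y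
        have hk : ∀ (n : ℕ), ∀ q ∈ P, u ^ n * q = q * u ^ n := fun n q hq =>
          (Commute.pow_left (hcomm q hq) n).eq
        have : ⁅g * u ^ k, g' * u ^ l⁆ = ⁅g, g'⁆ := by
          rw [commutatorElement_def, commutatorElement_def, mul_inv_rev, mul_inv_rev]
          calc g * u ^ k * (g' * u ^ l) * ((u ^ k)⁻¹ * g⁻¹) * ((u ^ l)⁻¹ * g'⁻¹)
              = g * (u ^ k * g') * (u ^ l * (u ^ k)⁻¹) * g⁻¹ * (u ^ l)⁻¹ * g'⁻¹ := by group
            _ = g * (g' * u ^ k) * ((u ^ k)⁻¹ * u ^ l) * g⁻¹ * (u ^ l)⁻¹ * g'⁻¹ := by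
                rw [hk k g' hg', (Commute.inv_right ((Commute.refl u).pow_pow l k)).eq]
            _ = g * g' * (u ^ l * g⁻¹) * (u ^ l)⁻¹ * g'⁻¹ := by group
            _ = g * g' * (g⁻¹ * u ^ l) * (u ^ l)⁻¹ * g'⁻¹ := by rw [hk l g⁻¹ (P.inv_mem hg)]
            _ = _ := by group
        rw [this]
        exact Subgroup.commutator_mem_commutator hg hg'
      have : Nontrivial P := (Finite.one_lt_card_iff_nontrivial).mp (by rw [hD]; norm_num)
      have : Group.IsNilpotent P := (IsPGroup.of_card (p := 2) (n := 6) (by rw [hD]; norm_num)).isNilpotent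
      have hlt := Group.IsSolvable.commutator_lt_top_of_nontrivial (G := P)
      apply hlt.ne
      rw [eq_top_iff]
      intro x _
      have hx := hle x.2
      rw [← Subgroup.map_subtype_commutator] at hx
      obtain ⟨y, hy, e⟩ := hx
      rwa [← Subtype.ext e]
  have inv16 : ∀ S : Subgroup (G ⧸ Z), S ≤ Pb → (∀ x ∈ S, ub * x * ub⁻¹ ∈ S) → S ≠ ⊥ → S = Pb := by
    intro S hS hSu hne
    have h := fix_mod_five S ub hub5 hSu
    have h1 : Nat.card {x : S // ub * (x : G ⧸ Z) * ub⁻¹ = x} = 1 := by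
      rw [Nat.card_eq_one_iff_unique]
      refine ⟨⟨fun x y => ?_⟩, ⟨⟨1, by simp⟩⟩⟩
      apply Subtype.ext; apply Subtype.ext
      rw [fpf _ (hS x.1.2) x.2, fpf _ (hS y.1.2) y.2]
    rw [h1] at h
    rcases dvd16 (hPb ▸ Subgroup.card_dvd_of_le hS) h with e | e
    · exact absurd (Subgroup.eq_bot_of_card_eq S e) hne
    · exact Subgroup.eq_of_le_of_card_ge hS (by rw [e, hPb])
  have hPbp : IsPGroup 2 Pb := IsPGroup.of_card (p := 2) (n := 4) (by rw [hPb]; norm_num)
  have hne : Pb ≠ ⊥ := fun e => by rw [e, Subgroup.card_bot] at hPb; omega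
  have : Nontrivial Pb := Pb.nontrivial_iff_ne_bot.mpr hne
  have : Fact (Nat.Prime 2) := ⟨Nat.prime_two⟩
  have hab : ∀ x ∈ Pb, ∀ y ∈ Pb, x * y = y * x := by
    have hS := inv16 (Pb ⊓ Subgroup.centralizer (Pb : Set (G ⧸ Z))) inf_le_left ?_ ?_
    · intro x hx y hy
      rw [← hS] at hy
      exact hy.2 x hx
    · rintro x ⟨hx, hxc⟩
      refine ⟨hPbn.conj_mem x hx ub, fun y hy => ?_⟩
      have h := hxc (ub⁻¹ * y * ub) (by simpa using hPbn.conj_mem y hy ub⁻¹)
      calc y * (ub * x * ub⁻¹) = ub * ((ub⁻¹ * y * ub) * x) * ub⁻¹ := by group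
        _ = ub * (x * (ub⁻¹ * y * ub)) * ub⁻¹ := by rw [h]
        _ = _ := by group
    · intro e
      have := hPbp.center_nontrivial
      obtain ⟨⟨c, hc⟩, hc1⟩ := exists_ne (1 : Subgroup.center Pb)
      apply hc1
      have : (c : G ⧸ Z) ∈ Pb ⊓ Subgroup.centralizer (Pb : Set (G ⧸ Z)) :=
        ⟨c.2, fun y hy => congrArg Subtype.val (Subgroup.mem_center_iff.mp hc ⟨y, hy⟩)⟩
      rw [e, Subgroup.mem_bot] at this
      exact Subtype.ext (Subtype.ext this)
  have hel : ∀ x ∈ Pb, x * x = 1 := by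
    let S : Subgroup (G ⧸ Z) :=
      { carrier := {x | x ∈ Pb ∧ x * x = 1}
        one_mem' := ⟨Pb.one_mem, one_mul 1⟩
        mul_mem' := by
          rintro x y ⟨hx, ex⟩ ⟨hy, ey⟩
          refine ⟨Pb.mul_mem hx hy, ?_⟩
          rw [mul_assoc, ← mul_assoc y, hab y hy x hx, mul_assoc x, ey, mul_one, ex]
        inv_mem' := by
          rintro x ⟨hx, ex⟩
          exact ⟨Pb.inv_mem hx, by rw [← mul_inv_rev, ex, inv_one]⟩ }
    have hS := inv16 S (fun x hx => hx.1) ?_ ?_
    · intro x hx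
      rw [← hS] at hx
      exact hx.2
    · rintro x ⟨hx, ex⟩
      refine ⟨hPbn.conj_mem x hx ub, ?_⟩
      calc ub * x * ub⁻¹ * (ub * x * ub⁻¹) = ub * (x * x) * ub⁻¹ := by group
        _ = 1 := by rw [ex]; group
    · intro e
      obtain ⟨c, hc⟩ := exists_prime_orderOf_dvd_card' (G := Pb) 2 (by rw [hPb]; norm_num)
      have h2 : c ^ 2 = 1 := hc ▸ pow_orderOf_eq_one c
      have : (c : G ⧸ Z) ∈ S := ⟨c.2, by rw [← pow_two]; exact congrArg Subtype.val h2⟩
      rw [e, Subgroup.mem_bot] at this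
      rw [Subtype.ext (a1 := c) (a2 := 1) this, orderOf_one] at hc
      omega
  have comm : ∀ x ∈ P, ∀ y ∈ P, ∃ z ∈ Z, x * y = y * x * z := by
    intro x hx y hy
    obtain ⟨z, hz, e⟩ := (πeq (y * x) (x * y)).1 (by
      rw [map_mul, map_mul]; exact hab _ (Subgroup.mem_map_of_mem π hy) _ (Subgroup.mem_map_of_mem π hx))
    exact ⟨z, hz, e.symm⟩
  obtain ⟨a0, ha0, ha0Z⟩ : ∃ a ∈ P, a ∉ Z := by
    by_contra hcon
    push Not at hcon
    have := Subgroup.card_dvd_of_le (show P ≤ Z from hcon)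
    rw [hD, hZc] at this
    norm_num at this
  have hcP : ∀ (i : ℕ) (x : G), x ∈ P → u ^ i * x * (u ^ i)⁻¹ ∈ P := fun i x hx => hPn.conj_mem x hx _
  let p := a0 * conjA a0 u 1 * conjA a0 u 2 * conjA a0 u 3 * conjA a0 u 4
  have hp : p ∈ Z := by
    rw [← π1]
    have hpP : π p ∈ Pb := Subgroup.mem_map_of_mem π
      (P.mul_mem (P.mul_mem (P.mul_mem (P.mul_mem ha0 (hcP 1 _ ha0)) (hcP 2 _ ha0)) (hcP 3 _ ha0)) (hcP 4 _ ha0))
    apply fpf _ hpP
    have e : u * p * u⁻¹ = conjA a0 u 1 * conjA a0 u 2 * conjA a0 u 3 * conjA a0 u 4 * a0 := by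
      have h5 : u * conjA a0 u 4 * u⁻¹ = a0 := by
        calc u * conjA a0 u 4 * u⁻¹ = u ^ 5 * a0 * (u ^ 5)⁻¹ := by rw [conjA]; group
          _ = a0 := by rw [hu5]; group
      calc u * p * u⁻¹ = u * a0 * u⁻¹ * (u * conjA a0 u 1 * u⁻¹) * (u * conjA a0 u 2 * u⁻¹) *
            (u * conjA a0 u 3 * u⁻¹) * (u * conjA a0 u 4 * u⁻¹) := by simp only [p]; group
        _ = _ := by rw [h5]; simp only [conjA]; group
    rw [hub, ← map_inv, ← map_mul, ← map_mul, e]
    simp only [p, map_mul]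
    rw [hab (π (conjA a0 u 1) * π (conjA a0 u 2) * π (conjA a0 u 3) * π (conjA a0 u 4)) (by
      simp only [← map_mul]; exact Subgroup.mem_map_of_mem π
        (P.mul_mem (P.mul_mem (P.mul_mem (hcP 1 _ ha0) (hcP 2 _ ha0)) (hcP 3 _ ha0)) (hcP 4 _ ha0)))
      (π a0) (Subgroup.mem_map_of_mem π ha0)]
    group
  let a := a0 * p
  have haP : a ∈ P := P.mul_mem ha0 (hZP hp)
  have haZ : a ∉ Z := fun h => ha0Z (by simpa [a] using Z.mul_mem h (Z.inv_mem hp))
  have cA : ∀ i, conjA a u i = conjA a0 u i * p := fun i => by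
    calc conjA a u i = u ^ i * a0 * (p * (u ^ i)⁻¹) := by simp only [conjA, a]; group
      _ = _ := by rw [hZcen p hp, conjA]; group
  have hprod : a * conjA a u 1 * conjA a u 2 * conjA a u 3 * conjA a u 4 = 1 := by
    rw [cA 1, cA 2, cA 3, cA 4]
    have m : ∀ x y : G, x * p * (y * p) = x * y := fun x y => by
      rw [mul_assoc x p, ← mul_assoc p y, hZcen p hp y, mul_assoc y, hZsq p hp, mul_one]
    simp only [a]
    calc a0 * p * (conjA a0 u 1 * p) * (conjA a0 u 2 * p) * (conjA a0 u 3 * p) * (conjA a0 u 4 * p)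
        = p * p := by
          rw [m, ← mul_assoc (a0 * _) _ p, m, ← mul_assoc (a0 * _ * _ * _) _ p]
      _ = 1 := hZsq p hp
  let s := a * a
  have hs : s ∈ Z := (π1 _).1 (by rw [map_mul]; exact hel _ (Subgroup.mem_map_of_mem π haP))
  have hsi : ∀ i, conjA a u i * conjA a u i = s := fun i => by
    calc conjA a u i * conjA a u i = u ^ i * (a * a) * (u ^ i)⁻¹ := by rw [conjA]; group
      _ = _ := by rw [← hZcen (a * a) hs]; simp [s]
  have hmem : ∀ i, conjA a u i ∈ P := fun i => hcP i a haP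
  obtain ⟨c1, hc1, e1⟩ := comm (conjA a u 1) (hmem 1) a haP
  obtain ⟨c2, hc2, e2⟩ := comm (conjA a u 2) (hmem 2) a haP
  have shift : ∀ (i : ℕ) (b c : G), c ∈ Z → b * a = a * b * c →
      (u ^ i * b * (u ^ i)⁻¹) * conjA a u i = conjA a u i * (u ^ i * b * (u ^ i)⁻¹) * c := by
    intro i b c hc e
    calc (u ^ i * b * (u ^ i)⁻¹) * conjA a u i = u ^ i * (b * a) * (u ^ i)⁻¹ := by rw [conjA]; group
      _ = u ^ i * a * b * (c * (u ^ i)⁻¹) := by rw [e]; group
      _ = _ := by rw [hZcen c hc, conjA]; group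
  have flip : ∀ x y c : G, c ∈ Z → x * y = y * x * c → y * x = x * y * c := fun x y c hc e => by
    rw [e, mul_assoc, hZsq c hc, mul_one]
  have cj : ∀ i j : ℕ, u ^ i * conjA a u j * (u ^ i)⁻¹ = conjA a u (i + j) := fun i j => by
    simp only [conjA, pow_add]; group
  have cj5 : conjA a u 5 = a := by rw [conjA, hu5]; group
  have e21 : conjA a u 2 * conjA a u 1 = conjA a u 1 * conjA a u 2 * c1 := by
    have h := shift 1 _ c1 hc1 e1
    rw [cj] at h
    exact h
  have e32 : conjA a u 3 * conjA a u 2 = conjA a u 2 * conjA a u 3 * c1 := by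
    have h := shift 2 _ c1 hc1 e1
    rw [cj] at h
    exact h
  have e31 : conjA a u 3 * conjA a u 1 = conjA a u 1 * conjA a u 3 * c2 := by
    have h := shift 1 _ c2 hc2 e2
    rw [cj] at h
    exact h
  have e3 : conjA a u 3 * a = a * conjA a u 3 * c2 := by
    have h := shift 3 _ c2 hc2 e2
    rw [cj, cj5] at h
    exact flip _ _ c2 hc2 h
  have sinv : ∀ i, (conjA a u i)⁻¹ = conjA a u i * s := fun i => by
    rw [inv_eq_iff_mul_eq_one, ← mul_assoc, hsi, hZsq s hs]
  have p0 : conjA a u 0 = a := by simp [conjA]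
  have hr4 : conjA a u 4 = conjA a u 3 * conjA a u 2 * conjA a u 1 * a := by
    have e : conjA a u 4 = (conjA a u 3)⁻¹ * (conjA a u 2)⁻¹ * (conjA a u 1)⁻¹ * (conjA a u 0)⁻¹ := by
      rw [← mul_inv_rev, ← mul_inv_rev, ← mul_inv_rev, p0]
      apply eq_inv_of_mul_eq_one_right
      rw [← hprod]; group
    have m : ∀ x y : G, x * s * (y * s) = x * y := fun x y => by
      rw [mul_assoc x s, ← mul_assoc s y, hZcen s hs y, mul_assoc y, hZsq s hs, mul_one]
    rw [e, sinv, sinv, sinv, sinv, m, mul_assoc (conjA a u 3 * conjA a u 2), m, p0]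
    group
  have hsq : a * a = c1 * c2 := by
    have l2 : conjA a u 1 * a * conjA a u 2 = conjA a u 2 * (conjA a u 1 * a) * (c1 * c2) := by
      rw [mul_assoc (conjA a u 1), flip _ _ c2 hc2 e2, ← mul_assoc, ← mul_assoc, flip _ _ c1 hc1 e21,
        mul_assoc _ c1 a, hZcen c1 hc1 a]
      group
    have l3 : conjA a u 2 * conjA a u 1 * a * conjA a u 3 =
        conjA a u 3 * (conjA a u 2 * conjA a u 1 * a) * c1 := by
      rw [mul_assoc _ a, flip _ _ c2 hc2 e3]
      calc conjA a u 2 * conjA a u 1 * (conjA a u 3 * a * c2)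
          = conjA a u 2 * (conjA a u 1 * conjA a u 3) * (a * c2) := by group
        _ = conjA a u 2 * conjA a u 3 * conjA a u 1 * (c2 * (a * c2)) := by rw [flip _ _ c2 hc2 e31]; group
        _ = conjA a u 2 * conjA a u 3 * conjA a u 1 * (a * c2 * c2) := by rw [hZcen c2 hc2]
        _ = conjA a u 3 * conjA a u 2 * (c1 * (conjA a u 1 * a)) := by
            rw [flip _ _ c1 hc1 e32, mul_assoc a, hZsq c2 hc2]; group
        _ = _ := by rw [hZcen c1 hc1]; group
    have key := hsi 4
    rw [hr4] at key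
    have : conjA a u 3 * conjA a u 2 * conjA a u 1 * a * (conjA a u 3 * conjA a u 2 * conjA a u 1 * a) =
        c1 * c2 := by
      calc conjA a u 3 * conjA a u 2 * conjA a u 1 * a * (conjA a u 3 * conjA a u 2 * conjA a u 1 * a)
          = conjA a u 3 * (conjA a u 2 * conjA a u 1 * a * conjA a u 3) * (conjA a u 2 * conjA a u 1 * a) := by
            group
        _ = conjA a u 3 * conjA a u 3 * (conjA a u 2 * conjA a u 1 * a) *
              (c1 * (conjA a u 2 * conjA a u 1 * a)) := by rw [l3]; group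
        _ = conjA a u 3 * conjA a u 3 * (conjA a u 2 * conjA a u 1 * a) *
              (conjA a u 2 * conjA a u 1 * a * c1) := by rw [hZcen c1 hc1]
        _ = conjA a u 3 * conjA a u 3 * conjA a u 2 * (conjA a u 1 * a * conjA a u 2) *
              (conjA a u 1 * a * c1) := by group
        _ = conjA a u 3 * conjA a u 3 * (conjA a u 2 * conjA a u 2) * (conjA a u 1 * a) *
              ((c1 * c2) * (conjA a u 1 * a * c1)) := by rw [l2]; group
        _ = conjA a u 3 * conjA a u 3 * (conjA a u 2 * conjA a u 2) * (conjA a u 1 * a) *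
              (conjA a u 1 * a * c1 * (c1 * c2)) := by rw [hZcen (c1 * c2) (Z.mul_mem hc1 hc2)]
        _ = conjA a u 1 * (a * conjA a u 1) * (a * c2) := by
            rw [hsi, hsi, hZsq s hs]
            calc 1 * (conjA a u 1 * a) * (conjA a u 1 * a * c1 * (c1 * c2))
                = conjA a u 1 * (a * conjA a u 1) * (a * (c1 * c1) * c2) := by group
              _ = _ := by rw [hZsq c1 hc1]; group
        _ = conjA a u 1 * conjA a u 1 * a * (c1 * (a * c2)) := by rw [flip _ _ c1 hc1 e1]; group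
        _ = conjA a u 1 * conjA a u 1 * (a * a) * (c2 * c1) := by rw [hZcen c1 hc1]; group
        _ = c1 * c2 := by rw [hsi, show a * a = s from rfl, hZsq s hs, hZcen c2 hc2, one_mul]
    rw [this] at key
    exact key.symm
  refine ⟨a, u, c1, c2, ⟨hu5, hZcen c1 hc1, hZcen c2 hc2, hZsq c1 hc1, hZsq c2 hc2, hsq,
    by simpa [conjA] using e1, e2, e3, by rw [p0.symm] at hr4; simpa [conjA] using hr4⟩, ?_⟩
  set H := Subgroup.closure ({a, u} : Set G) with hH
  have hau : a ∈ H ∧ u ∈ H := ⟨Subgroup.subset_closure (by simp), Subgroup.subset_closure (by simp)⟩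
  have hHb : H.map π ⊓ Pb = Pb := by
    refine inv16 _ inf_le_right ?_ ?_
    · rintro x ⟨hx, hx'⟩
      exact ⟨(H.map π).mul_mem ((H.map π).mul_mem (Subgroup.mem_map_of_mem π hau.2) hx)
        ((H.map π).inv_mem (Subgroup.mem_map_of_mem π hau.2)), hPbn.conj_mem x hx' ub⟩
    · intro e
      have : π a ∈ H.map π ⊓ Pb := ⟨Subgroup.mem_map_of_mem π hau.1, Subgroup.mem_map_of_mem π haP⟩
      rw [e, Subgroup.mem_bot, π1] at this
      exact haZ this
  have hHZ : H ⊔ Z = ⊤ := by
    apply hgen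
    · intro x hx
      have : π x ∈ H.map π := (hHb.ge (Subgroup.mem_map_of_mem π hx)).1
      obtain ⟨y, hy, e⟩ := this
      obtain ⟨z, hz, e'⟩ := (πeq y x).1 e
      rw [← e']
      exact Subgroup.mul_mem _ (le_sup_left (b := Z) hy) (le_sup_right (a := H) hz)
    · exact le_sup_left (b := Z) hau.2
  apply hgen _ ?_ hau.2
  rw [hPdef, commutator_def, Subgroup.commutator_le]
  intro x _ y _
  have dec : ∀ x : G, ∃ h ∈ H, ∃ z ∈ Z, x = h * z := fun x => by
    have hx : x ∈ H ⊔ Z := by rw [hHZ]; trivial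
    obtain ⟨h, hh, z, hz, e⟩ := Subgroup.mem_sup_of_normal_right.mp hx
    exact ⟨h, hh, z, hz, e.symm⟩
  obtain ⟨h, hh, z, hz, rfl⟩ := dec x
  obtain ⟨k, hk, w, hw, rfl⟩ := dec y
  have : ⁅h * z, k * w⁆ = ⁅h, k⁆ := by
    rw [commutatorElement_def, commutatorElement_def, mul_inv_rev, mul_inv_rev]
    calc h * z * (k * w) * (z⁻¹ * h⁻¹) * (w⁻¹ * k⁻¹) = h * (z * k) * (w * (z⁻¹ * h⁻¹)) * w⁻¹ * k⁻¹ := by group
      _ = h * (k * z) * (z⁻¹ * h⁻¹ * w) * w⁻¹ * k⁻¹ := by rw [hZcen z hz, hZcen w hw]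
      _ = _ := by group
  rw [this, commutatorElement_def]
  exact H.mul_mem (H.mul_mem (H.mul_mem hh hk) (H.inv_mem hh)) (H.inv_mem hk)

end Cfsg.Agent.Ord320
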