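import Cfsg.Agent.Ord320.Data
import Cfsg.Agent.Ord320.Collect
import Cfsg.Agent.U34.Frames

/-!
The centraliser of an involution of `SU(3,4)` has the standard generators.
-/

set_option autoImplicit false

namespace Cfsg.Agent.Ord320

open Cfsg Cfsg.Agent.U34 Matrix

/-- the code of a matrix -/
def enc (M : Matrix (Fin 3) (Fin 3) F16) : ℕ :=
  Nat.rec 0 (fun p s => s + ((M (Fin.ofNat 3 (p / 3)) (Fin.ofNat 3 (p % 3))).val.val <<< (4 * p))) 9

/-- multiplication of codes -/
def mulC (a b : ℕ) : ℕ := Nat.rec 0 (fun p s => s + (dotN a b (p / 3) (p % 3) <<< (4 * p))) 9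

/-- the identity code -/
def oneC : ℕ := 0x100010001

theorem xorlt {m n : ℕ} (hm : m < 16) (hn : n < 16) : m ^^^ n < 16 := F16.xor_lt hm hn

theorem dotN_lt (a b i j : ℕ) : dotN a b i j < 16 :=
  xorlt (xorlt (F16.mulN_lt _ _) (F16.mulN_lt _ _)) (F16.mulN_lt _ _)

theorem enc_toMat_mul (a b : ℕ) : enc (toMat a * toMat b) = mulC a b := by
  have key : ∀ p < 9, ((toMat a * toMat b) (Fin.ofNat 3 (p / 3)) (Fin.ofNat 3 (p % 3))).val.val =
      dotN a b (p / 3) (p % 3) := by
    intro p hp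
    rw [toMat_mul_apply, F16.val_ofNat16 (dotN_lt _ _ _ _)]
    congr 1 <;> simp [Fin.ofNat, Nat.mod_eq_of_lt] <;> omega
  have step : ∀ n ≤ 9,
      (Nat.rec 0 (fun p s => s + (((toMat a * toMat b) (Fin.ofNat 3 (p / 3)) (Fin.ofNat 3 (p % 3))).val.val
        <<< (4 * p))) n : ℕ) = Nat.rec 0 (fun p s => s + (dotN a b (p / 3) (p % 3) <<< (4 * p))) n := by
    intro n
    induction n with
    | zero => intro _; rfl
    | succ n ih =>
      intro hn
      change _ + _ = _ + _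
      rw [ih (by omega), key n (by omega)]
  exact step 9 le_rfl

theorem digit {a b c d : ℕ} (ha : a < 16) (hc : c < 16) (h : a + 16 * b = c + 16 * d) : a = c ∧ b = d := by
  omega

theorem enc_inj {M N : Matrix (Fin 3) (Fin 3) F16} (h : enc M = enc N) : M = N := by
  have e : ∀ M : Matrix (Fin 3) (Fin 3) F16, enc M =
      (M 0 0).val.val + 16 * ((M 0 1).val.val + 16 * ((M 0 2).val.val + 16 * ((M 1 0).val.val + 16 *
      ((M 1 1).val.val + 16 * ((M 1 2).val.val + 16 * ((M 2 0).val.val + 16 * ((M 2 1).val.val + 16 *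
      (M 2 2).val.val))))))) := fun M => by
    have key : ∀ f : ℕ → ℕ, (Nat.rec 0 (fun p s => s + (f p <<< (4 * p))) 9 : ℕ) =
        f 0 + 16 * (f 1 + 16 * (f 2 + 16 * (f 3 + 16 * (f 4 + 16 * (f 5 + 16 * (f 6 + 16 * (f 7 + 16 * f 8))))))) := by
      intro f
      show 0 + (f 0 <<< (4 * 0)) + (f 1 <<< (4 * 1)) + (f 2 <<< (4 * 2)) + (f 3 <<< (4 * 3)) + (f 4 <<< (4 * 4)) + (f 5 <<< (4 * 5)) + (f 6 <<< (4 * 6)) + (f 7 <<< (4 * 7)) + (f 8 <<< (4 * 8)) = _
      simp [Nat.shiftLeft_eq]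
      ring
    exact key fun p => (M (Fin.ofNat 3 (p / 3)) (Fin.ofNat 3 (p % 3))).val.val
  rw [e, e] at h
  have b : ∀ (X : Matrix (Fin 3) (Fin 3) F16) i j, (X i j).val.val < 16 := fun X i j => (X i j).val.isLt
  obtain ⟨e00, h⟩ := digit (b M 0 0) (b N 0 0) h
  obtain ⟨e01, h⟩ := digit (b M 0 1) (b N 0 1) h
  obtain ⟨e02, h⟩ := digit (b M 0 2) (b N 0 2) h
  obtain ⟨e10, h⟩ := digit (b M 1 0) (b N 1 0) h
  obtain ⟨e11, h⟩ := digit (b M 1 1) (b N 1 1) h
  obtain ⟨e12, h⟩ := digit (b M 1 2) (b N 1 2) h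
  obtain ⟨e20, h⟩ := digit (b M 2 0) (b N 2 0) h
  obtain ⟨e21, e22⟩ := digit (b M 2 1) (b N 2 1) h
  have ext : ∀ i j, (M i j).val.val = (N i j).val.val := by
    intro i j
    fin_cases i <;> fin_cases j <;> assumption
  ext i j
  rw [← F16.ofNat16_val (M i j), ext, F16.ofNat16_val]

/-- the matrix of an element -/
def mat (g : SU 3 F16 4) : Matrix (Fin 3) (Fin 3) F16 :=
  ((g : SpecialLinearGroup (Fin 3) F16) : Matrix (Fin 3) (Fin 3) F16)

theorem mat_mul (g h : SU 3 F16 4) : mat (g * h) = mat g * mat h := rfl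

theorem mat_det (g : SU 3 F16 4) : (mat g).det = 1 := g.1.2

theorem mat_inj {g h : SU 3 F16 4} (e : mat g = mat h) : g = h := Subtype.ext (Subtype.ext e)

/-- a group element represented by a code -/
def Rep (g : SU 3 F16 4) (n : ℕ) : Prop :=
  mat g = toMat n ∧ enc (toMat n) = n

theorem Rep.mul {g h : SU 3 F16 4} {m n : ℕ} (hg : Rep g m) (hh : Rep h n)
    (e : enc (toMat (mulC m n)) = mulC m n := by decide +kernel) : Rep (g * h) (mulC m n) := by
  refine ⟨?_, e⟩
  rw [mat_mul, hg.1, hh.1]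
  exact enc_inj (by rw [enc_toMat_mul, e])

theorem Rep.eq {g h : SU 3 F16 4} {m n : ℕ} (hg : Rep g m) (hh : Rep h n) (e : m = n) : g = h :=
  mat_inj (by rw [hg.1, hh.1, e])

theorem Rep.one : Rep 1 oneC := by
  refine ⟨?_, by decide +kernel⟩
  rw [show toMat oneC = 1 from by decide +kernel]
  rfl

/-- the element with a given code -/
def mkSU (n : ℕ) (hd : (toMat n).det = 1) (hc : colsUnitary (toMat n)) : SU 3 F16 4 :=
  ⟨⟨toMat n, hd⟩, mem_SU_of_cols _ hc⟩

/-- the 2-element -/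
def sA : SU 3 F16 4 := mkSU cA (by rw [det_fin_three]; decide +kernel) (by unfold colsUnitary; decide +kernel)
/-- the element of order 5 -/
def sU : SU 3 F16 4 := mkSU cU (by rw [det_fin_three]; decide +kernel) (by unfold colsUnitary; decide +kernel)
/-- the involution -/
def sT : SU 3 F16 4 := mkSU cT (by rw [det_fin_three]; decide +kernel) (by unfold colsUnitary; decide +kernel)
/-- the first commutator -/
def sC1 : SU 3 F16 4 := mkSU cC1 (by rw [det_fin_three]; decide +kernel) (by unfold colsUnitary; decide +kernel)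
/-- the second commutator -/
def sC2 : SU 3 F16 4 := mkSU cC2 (by rw [det_fin_three]; decide +kernel) (by unfold colsUnitary; decide +kernel)

theorem repA : Rep sA cA := ⟨rfl, by decide +kernel⟩
theorem repU : Rep sU cU := ⟨rfl, by decide +kernel⟩
theorem repT : Rep sT cT := ⟨rfl, by decide +kernel⟩
theorem repC1 : Rep sC1 cC1 := ⟨rfl, by decide +kernel⟩
theorem repC2 : Rep sC2 cC2 := ⟨rfl, by decide +kernel⟩

/-- powers of `cU` -/
def upow : ℕ → ℕ
  | 0 => oneC
  | n + 1 => mulC (upow n) cU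

/-- conjugates of `cA` -/
def cAi (i : ℕ) : ℕ := (conjTable >>> (36 * i)) &&& 0xfffffffff

theorem repUpow : ∀ n < 6, Rep (sU ^ n) (upow n) := by
  intro n
  induction n with
  | zero => intro _; rw [pow_zero]; exact Rep.one
  | succ n ih =>
    intro hn
    rw [pow_succ]
    refine (ih (by omega)).mul repU ?_
    have h : ∀ k < 5, enc (toMat (mulC (upow k) cU)) = mulC (upow k) cU := by decide +kernel
    exact h n (by omega)

theorem repConj : ∀ i < 5, Rep (conjA sA sU i) (cAi i) := by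
  intro i hi
  have h1 : ∀ k < 5, enc (toMat (cAi k)) = cAi k := by decide +kernel
  have h2 : ∀ k < 5, mulC (cAi k) (upow k) = mulC (upow k) cA := by decide +kernel
  refine ⟨?_, h1 i hi⟩
  have e : toMat (cAi i) * toMat (upow i) = toMat (upow i) * toMat cA := by
    apply enc_inj
    rw [enc_toMat_mul, enc_toMat_mul, h2 i hi]
  have key : conjA sA sU i * sU ^ i = sU ^ i * sA := by rw [conjA, inv_mul_cancel_right]
  have key' := congrArg mat key
  rw [mat_mul, mat_mul] at key'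
  rw [(repUpow i (by omega)).1, repA.1, ← e] at key'
  have hdet : (toMat (upow i)).det = 1 := by
    rw [← (repUpow i (by omega)).1]; exact mat_det _
  have hu : IsUnit (toMat (upow i)) := (Matrix.isUnit_iff_isUnit_det _).mpr (by rw [hdet]; exact isUnit_one)
  exact hu.mul_right_cancel key'

/-- code of `x^e` -/
def pwC (c : ℕ) (e : ZMod 2) : ℕ := if e = 0 then oneC else c

theorem repPw {g : SU 3 F16 4} {n : ℕ} (h : Rep g n) (e : ZMod 2) : Rep (pw g e) (pwC n e) := by
  rcases (show ∀ e : ZMod 2, e = 0 ∨ e = 1 by decide) e with rfl | rfl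
  · rw [pw_zero]; exact Rep.one
  · rw [pw_one]; exact h

theorem rel_check : upow 5 = oneC ∧ mulC cA cA = mulC cC1 cC2 ∧ mulC cC1 cC1 = oneC ∧ mulC cC2 cC2 = oneC ∧
    mulC (cAi 1) cA = mulC (mulC cA (cAi 1)) cC1 ∧ mulC (cAi 2) cA = mulC (mulC cA (cAi 2)) cC2 ∧
    mulC (cAi 3) cA = mulC (mulC cA (cAi 3)) cC2 ∧
    cAi 4 = mulC (mulC (mulC (cAi 3) (cAi 2)) (cAi 1)) cA ∧
    mulC cC1 cA = mulC cA cC1 ∧ mulC cC1 cU = mulC cU cC1 ∧
    mulC cC2 cA = mulC cA cC2 ∧ mulC cC2 cU = mulC cU cC2 ∧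
    mulC cT cA = mulC cA cT ∧ mulC cT cU = mulC cU cT ∧ mulC cT cT = oneC ∧ cT ≠ oneC := by
  decide +kernel

theorem rels : sU ^ 5 = 1 ∧ sA * sA = sC1 * sC2 ∧ sC1 * sC1 = 1 ∧ sC2 * sC2 = 1 ∧
    conjA sA sU 1 * sA = sA * conjA sA sU 1 * sC1 ∧ conjA sA sU 2 * sA = sA * conjA sA sU 2 * sC2 ∧
    conjA sA sU 3 * sA = sA * conjA sA sU 3 * sC2 ∧
    conjA sA sU 4 = conjA sA sU 3 * conjA sA sU 2 * conjA sA sU 1 * sA ∧
    sC1 * sA = sA * sC1 ∧ sC1 * sU = sU * sC1 ∧ sC2 * sA = sA * sC2 ∧ sC2 * sU = sU * sC2 ∧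
    sT * sA = sA * sT ∧ sT * sU = sU * sT ∧ sT * sT = 1 ∧ sT ≠ 1 := by
  obtain ⟨h1, h2, h3, h4, h5, h6, h7, h8, h9, h10, h11, h12, h13, h14, h15, h16⟩ := rel_check
  have c1 := repConj 1 (by norm_num)
  have c2 := repConj 2 (by norm_num)
  have c3 := repConj 3 (by norm_num)
  refine ⟨(repUpow 5 (by norm_num)).eq Rep.one h1, (repA.mul repA).eq (repC1.mul repC2) h2,
    (repC1.mul repC1).eq Rep.one h3, (repC2.mul repC2).eq Rep.one h4,
    (c1.mul repA).eq ((repA.mul c1).mul repC1) h5, (c2.mul repA).eq ((repA.mul c2).mul repC2) h6,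
    (c3.mul repA).eq ((repA.mul c3).mul repC2) h7,
    (repConj 4 (by norm_num)).eq (((c3.mul c2).mul c1).mul repA) h8,
    (repC1.mul repA).eq (repA.mul repC1) h9, (repC1.mul repU).eq (repU.mul repC1) h10,
    (repC2.mul repA).eq (repA.mul repC2) h11, (repC2.mul repU).eq (repU.mul repC2) h12,
    (repT.mul repA).eq (repA.mul repT) h13, (repT.mul repU).eq (repU.mul repT) h14,
    (repT.mul repT).eq Rep.one h15, fun e => h16 ?_⟩
  have := congrArg (fun g : SU 3 F16 4 => enc (mat g)) e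
  rwa [repT.1, repT.2, Rep.one.1, Rep.one.2] at this

/-- the subgroup generated by the two elements -/
def K : Subgroup (SU 3 F16 4) := Subgroup.closure {sA, sU}

/-- code of the normal form -/
def nC (p : Pm) : ℕ :=
  mulC (mulC (mulC (mulC (mulC (pwC (cAi 0) p.1.1) (pwC (cAi 1) p.1.2.1)) (pwC (cAi 2) p.1.2.2.1))
    (pwC (cAi 3) p.1.2.2.2)) (mulC (pwC cC1 p.2.1.1) (pwC cC2 p.2.1.2))) (upow p.2.2.val)

/-- position of a parameter -/
def idx (p : Pm) : ℕ :=
  p.2.2.val * 64 + p.1.1.val * 32 + p.1.2.1.val * 16 + p.1.2.2.1.val * 8 + p.1.2.2.2.val * 4 +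
    p.2.1.1.val * 2 + p.2.1.2.val

/-- element codes -/
def els (i : ℕ) : ℕ := (elsTable >>> (36 * i)) &&& 0xfffffffff

theorem els_distinct : allLt 320 (fun i => allLt i (fun j => els j != els i)) = true := by decide +kernel

theorem idx_inj : Function.Injective idx := by
  intro p q h
  obtain ⟨⟨e0, e1, e2, e3⟩, ⟨d1, d2⟩, k⟩ := p
  obtain ⟨⟨f0, f1, f2, f3⟩, ⟨g1, g2⟩, l⟩ := q
  simp only [idx] at h
  have := ZMod.val_lt e0; have := ZMod.val_lt e1; have := ZMod.val_lt e2; have := ZMod.val_lt e3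
  have := ZMod.val_lt d1; have := ZMod.val_lt d2; have := ZMod.val_lt f0; have := ZMod.val_lt f1
  have := ZMod.val_lt f2; have := ZMod.val_lt f3; have := ZMod.val_lt g1; have := ZMod.val_lt g2
  have := ZMod.val_lt k; have := ZMod.val_lt l
  have hv : ∀ {n : ℕ} [NeZero n] {a b : ZMod n}, a.val = b.val → a = b := fun h => ZMod.val_injective _ h
  simp only [Prod.mk.injEq]
  refine ⟨⟨hv ?_, hv ?_, hv ?_, hv ?_⟩, ⟨hv ?_, hv ?_⟩, hv ?_⟩ <;> omega

theorem nC_els : ∀ p : Pm, nC p = els (idx p) ∧ enc (toMat (nC p)) = nC p := by decide +kernel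

theorem nC_steps : ∀ p : Pm,
    (let a := mulC (pwC (cAi 0) p.1.1) (pwC (cAi 1) p.1.2.1)
     let b := mulC a (pwC (cAi 2) p.1.2.2.1)
     let c := mulC b (pwC (cAi 3) p.1.2.2.2)
     let d := mulC (pwC cC1 p.2.1.1) (pwC cC2 p.2.1.2)
     let e := mulC c d
     enc (toMat a) = a ∧ enc (toMat b) = b ∧ enc (toMat c) = c ∧ enc (toMat d) = d ∧ enc (toMat e) = e) := by
  decide +kernel

theorem repNF (p : Pm) : Rep (nF sA sU sC1 sC2 p) (nC p) := by
  obtain ⟨ha, hb, hc, hd, he⟩ := nC_steps p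
  exact (((((repPw (repConj 0 (by norm_num)) _).mul (repPw (repConj 1 (by norm_num)) _) ha).mul
    (repPw (repConj 2 (by norm_num)) _) hb).mul (repPw (repConj 3 (by norm_num)) _) hc).mul
    ((repPw repC1 _).mul (repPw repC2 _) hd) he).mul
    (repUpow _ ((ZMod.val_lt p.2.2).trans (by norm_num))) (nC_els p).2

theorem nF_inj : Function.Injective (nF sA sU sC1 sC2) := by
  intro p q h
  have e : nC p = nC q := by rw [← (repNF p).2, ← (repNF p).1, h, (repNF q).1, (repNF q).2]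
  rw [(nC_els p).1, (nC_els q).1] at e
  have lt : ∀ p : Pm, idx p < 320 := by decide +kernel
  apply idx_inj
  rcases lt_trichotomy (idx p) (idx q) with hlt | heq | hlt
  · have := allLt_spec (allLt_spec els_distinct _ (lt q)) _ hlt
    simp [e] at this
  · exact heq
  · have := allLt_spec (allLt_spec els_distinct _ (lt p)) _ hlt
    simp [e] at this

theorem map_nF {G H : Type*} [Group G] [Group H] (f : G →* H) (a u c1 c2 : G) (p : Pm) :
    f (nF a u c1 c2 p) = nF (f a) (f u) (f c1) (f c2) p := by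
  simp [nF, nW, pw, conjA]

theorem mem_K : sA ∈ K ∧ sU ∈ K ∧ sC1 ∈ K ∧ sC2 ∈ K := by
  have ha : sA ∈ K := Subgroup.subset_closure (by simp)
  have hu : sU ∈ K := Subgroup.subset_closure (by simp)
  have hA : ∀ i, conjA sA sU i ∈ K := fun i =>
    K.mul_mem (K.mul_mem (K.pow_mem hu i) ha) (K.inv_mem (K.pow_mem hu i))
  obtain ⟨-, -, -, -, r1, r2, -⟩ := rels
  refine ⟨ha, hu, ?_, ?_⟩
  · rw [show sC1 = (sA * conjA sA sU 1)⁻¹ * (conjA sA sU 1 * sA) by rw [r1, inv_mul_cancel_left]]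
    exact K.mul_mem (K.inv_mem (K.mul_mem ha (hA 1))) (K.mul_mem (hA 1) ha)
  · rw [show sC2 = (sA * conjA sA sU 2)⁻¹ * (conjA sA sU 2 * sA) by rw [r2, inv_mul_cancel_left]]
    exact K.mul_mem (K.inv_mem (K.mul_mem ha (hA 2))) (K.mul_mem (hA 2) ha)

theorem comm_K {c : SU 3 F16 4} (ha : c * sA = sA * c) (hu : c * sU = sU * c) {x : SU 3 F16 4}
    (hx : x ∈ K) : c * x = x * c := by
  have hle : K ≤ Subgroup.centralizer {c} := (Subgroup.closure_le _).mpr (by
    intro y hy
    simp only [Set.mem_insert_iff, Set.mem_singleton_iff] at hy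
    rcases hy with rfl | rfl
    exacts [Subgroup.mem_centralizer_singleton_iff.mpr ha.symm, Subgroup.mem_centralizer_singleton_iff.mpr hu.symm])
  exact (Subgroup.mem_centralizer_singleton_iff.mp (hle hx)).symm

/-- conjugate codes -/
def orb (i : ℕ) : ℕ := (orbTable >>> (36 * i)) &&& 0xfffffffff

/-- parent of a conjugate -/
def par (i : ℕ) : ℕ := (parTable >>> (9 * i)) &&& 511

/-- generator code -/
def genC (i : ℕ) : ℕ := if par i % 2 = 0 then gx else gz

/-- check of the conjugation tree -/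
def orbOk (i : ℕ) : Bool :=
  enc (toMat (orb i)) == orb i && allLt i (fun j => orb j != orb i) &&
    decide (i = 0 ∨ (par i / 2 < i ∧ mulC (orb i) (genC i) = mulC (genC i) (orb (par i / 2))))

theorem orbOk_all : allLt 195 orbOk = true := by decide +kernel

theorem orb_zero : orb 0 = cT := by decide +kernel

theorem exists_conj : ∀ i, i < 195 → ∃ y : SU 3 F16 4, Rep (y * sT * y⁻¹) (orb i) := by
  intro i
  induction i using Nat.strong_induction_on with
  | _ i ih =>
    intro hi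
    have h := allLt_spec orbOk_all i hi
    simp only [orbOk, Bool.and_eq_true, beq_iff_eq, decide_eq_true_eq] at h
    rcases h.2 with rfl | ⟨hp, he⟩
    · refine ⟨1, ?_⟩
      rw [one_mul, inv_one, mul_one, orb_zero]
      exact repT
    obtain ⟨y, hy⟩ := ih _ hp (by omega)
    obtain ⟨g, hg⟩ : ∃ g : SU 3 F16 4, mat g = toMat (genC i) := by
      unfold genC
      split_ifs
      exacts [⟨suX, rfl⟩, ⟨suZ, rfl⟩]
    refine ⟨g * y, ?_, h.1.1⟩
    have key : (g * y) * sT * (g * y)⁻¹ * g = g * (y * sT * y⁻¹) := by group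
    have key' := congrArg mat key
    have e : toMat (orb i) * toMat (genC i) = toMat (genC i) * toMat (orb (par i / 2)) := by
      apply enc_inj
      rw [enc_toMat_mul, enc_toMat_mul, he]
    rw [mat_mul (g * y * sT * (g * y)⁻¹) g, mat_mul g (y * sT * y⁻¹), hg, hy.1, ← e] at key'
    have hdet : (toMat (genC i)).det = 1 := by rw [← hg]; exact mat_det _
    have hu : IsUnit (toMat (genC i)) := (Matrix.isUnit_iff_isUnit_det _).mpr (by rw [hdet]; exact isUnit_one)
    exact hu.mul_right_cancel key'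

theorem orb_inj {i j : ℕ} (hi : i < 195) (hj : j < 195) (h : orb i = orb j) : i = j := by
  rcases lt_trichotomy i j with hlt | heq | hlt
  · have := allLt_spec orbOk_all j hj
    simp only [orbOk, Bool.and_eq_true] at this
    have := allLt_spec this.1.2 i hlt
    simp [h] at this
  · exact heq
  · have := allLt_spec orbOk_all i hi
    simp only [orbOk, Bool.and_eq_true] at this
    have := allLt_spec this.1.2 j hlt
    simp [h] at this

theorem card_centraliser_le : Nat.card (Subgroup.centralizer ({sT} : Set (SU 3 F16 4))) ≤ 320 := by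
  classical
  choose y hy using exists_conj
  set C := Subgroup.centralizer ({sT} : Set (SU 3 F16 4)) with hC
  have h195 : 195 ≤ C.index := by
    rw [show (195 : ℕ) = Nat.card (Fin 195) by simp]
    refine Nat.card_le_card_of_injective
      (fun i : Fin 195 => (QuotientGroup.mk (y i i.isLt) : SU 3 F16 4 ⧸ C)) ?_
    intro i j h
    obtain ⟨c, hc, ec⟩ : ∃ c ∈ C, y i i.isLt * c = y j j.isLt :=
      ⟨(y i i.isLt)⁻¹ * y j j.isLt, QuotientGroup.eq.mp h, by group⟩
    have hct : c * sT = sT * c := Subgroup.mem_centralizer_singleton_iff.mp hc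
    have e : y j j.isLt * sT * (y j j.isLt)⁻¹ = y i i.isLt * sT * (y i i.isLt)⁻¹ := by
      rw [← ec]
      calc y i i.isLt * c * sT * (y i i.isLt * c)⁻¹ = y i i.isLt * (c * sT) * c⁻¹ * (y i i.isLt)⁻¹ := by group
        _ = _ := by rw [hct]; group
    refine Fin.ext (orb_inj i.isLt j.isLt ?_)
    rw [← (hy i i.isLt).2, ← (hy i i.isLt).1, ← e, (hy j j.isLt).1, (hy j j.isLt).2]
  have h := C.card_mul_index
  rw [dvd_card_suU] at h
  nlinarith

theorem K_eq : K = Subgroup.centralizer ({sT} : Set (SU 3 F16 4)) ∧ Nat.card K = 320 := by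
  obtain ⟨-, -, -, -, -, -, -, -, -, -, -, -, t1, t2, -, -⟩ := rels
  have hle : K ≤ Subgroup.centralizer ({sT} : Set (SU 3 F16 4)) := fun x hx =>
    Subgroup.mem_centralizer_singleton_iff.mpr (comm_K t1 t2 hx).symm
  obtain ⟨ha, hu, h1, h2⟩ := mem_K
  have hmem : ∀ p, nF sA sU sC1 sC2 p ∈ K := fun p => by
    have := (nF (⟨sA, ha⟩ : K) ⟨sU, hu⟩ ⟨sC1, h1⟩ ⟨sC2, h2⟩ p).2
    rwa [← K.coe_subtype, map_nF] at this
  have h320 : 320 ≤ Nat.card K := by
    rw [← card_pm]
    exact Nat.card_le_card_of_injective (fun p => (⟨_, hmem p⟩ : K))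
      fun p q h => nF_inj (congrArg Subtype.val h)
  have := Subgroup.card_le_of_le hle
  have := card_centraliser_le
  exact ⟨Subgroup.eq_of_le_of_card_ge hle (by omega), by omega⟩

theorem exists_rel_K : ∃ a u c1 c2 : K, Rel a u c1 c2 ∧ Subgroup.closure {a, u} = ⊤ := by
  obtain ⟨ha, hu, h1, h2⟩ := mem_K
  obtain ⟨e5, esq, e11, e22, r1, r2, r3, r4, k1, k2, k3, k4, -, -, -, -⟩ := rels
  refine ⟨⟨sA, ha⟩, ⟨sU, hu⟩, ⟨sC1, h1⟩, ⟨sC2, h2⟩, ⟨Subtype.ext e5,
    fun x => Subtype.ext (comm_K k1 k2 x.2), fun x => Subtype.ext (comm_K k3 k4 x.2),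
    Subtype.ext e11, Subtype.ext e22, Subtype.ext esq,
    Subtype.ext (by simpa [conjA] using r1), Subtype.ext (by simpa [conjA] using r2),
    Subtype.ext (by simpa [conjA] using r3), Subtype.ext (by simpa [conjA] using r4)⟩, ?_⟩
  apply Subgroup.map_injective K.subtype_injective
  rw [MonoidHom.map_closure, ← MonoidHom.range_eq_map, Subgroup.range_subtype]
  rw [Set.image_insert_eq, Set.image_singleton]
  rfl

end Cfsg.Agent.Ord320
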